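import Cfsg.Agent.CosetCert.Lower

/-!
Two permutations of 24 points and a chain of orbits for the group they generate.
-/

set_option autoImplicit false

namespace Cfsg.Lib.J4Pres

open Cfsg.Lib.CosetCert Cfsg.Lib.PermCert

/-- A table pair. -/
def permX : PP :=
  (0x1100040012000e000600150017000b000100140005000900100000000c000200030013000d001600070008000f000a, 0x1100040012000e000600150017000b000100140005000900100000000c000200030013000d001600070008000f000a)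

/-- A table pair. -/
def permY : PP :=
  (0x600030014000d00120011000a0016001000050001000c000e001500080007000f0013000400090017000b0002, 0x2000f00090014000500120011000e0006000a0013000b000100100003000800070016000d000400150000000c0017)

/-- The chain. -/
def chain : List Lev :=
  [⟨0, [[0], [1]], [(10, 0, 0), (23, 0, 1), (16, 10, 1), (17, 23, 0), (2, 23, 1), (11, 16, 0), (14, 16, 1), (8, 2, 0), (1, 11, 1), (20, 14, 0), (15, 1, 0), (12, 1, 1), (6, 15, 1), (9, 12, 0), (19, 6, 0), (22, 6, 1), (3, 9, 1), (5, 19, 1), (4, 22, 0), (7, 3, 0), (21, 3, 1), (13, 5, 0), (18, 21, 0)]⟩,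
   ⟨1, [[1, 0, 1, 0, 2], [2, 0, 1, 0, 1], [0, 2, 0, 1, 0, 1, 0]], [(7, 1, 0), (20, 1, 1), (18, 7, 0), (2, 20, 0), (23, 20, 1), (19, 20, 2), (11, 18, 1), (12, 2, 0), (15, 19, 0), (13, 19, 1), (5, 12, 1), (14, 15, 2), (4, 13, 0), (22, 13, 1), (17, 14, 0), (6, 14, 1), (21, 22, 0), (9, 22, 2), (8, 17, 0), (3, 6, 1), (10, 21, 0), (16, 21, 2)]⟩,
   ⟨2, [[0, 2, 0, 1, 0, 1, 0], [1, 0, 1, 0, 1, 0, 1, 0, 2, 0, 1, 0, 2]], [(11, 2, 0), (19, 2, 1), (23, 11, 0), (21, 11, 1), (7, 19, 0), (5, 19, 1), (16, 21, 0), (22, 21, 1), (20, 7, 0), (13, 7, 1), (4, 5, 0), (3, 16, 0), (8, 16, 1), (9, 22, 0), (10, 22, 1), (12, 20, 1), (6, 4, 0), (18, 4, 1), (17, 3, 1), (15, 10, 1), (14, 15, 0)]⟩,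
   ⟨3, [[2, 0, 2, 0, 2, 0, 2, 0, 1, 0, 1, 0, 1, 0, 2, 0, 1, 0, 1, 0], [1, 0, 2, 0, 1, 0, 1, 0, 1, 0, 2, 0, 1, 0, 1, 0, 2, 0, 1, 0, 1]], [(21, 3, 0), (8, 3, 1), (7, 21, 0), (18, 21, 1), (5, 8, 0), (16, 8, 1), (12, 7, 0), (13, 7, 1), (19, 18, 0), (11, 18, 1), (6, 5, 1), (15, 16, 1), (9, 12, 0), (23, 13, 1), (10, 19, 0), (22, 15, 0), (4, 23, 0), (20, 23, 1), (17, 10, 1), (14, 4, 0)]⟩,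
   ⟨4, [[1, 0, 1, 0, 2, 0, 2, 0, 2, 0, 2, 0, 2, 0, 1, 0, 2, 0, 2, 0, 1, 0, 2, 0, 1, 0, 2, 0, 1, 0, 1, 0, 1], [1, 0, 2, 0, 1, 0, 1, 0, 2, 0, 2, 0, 1, 0, 2, 0, 2, 0, 1, 0, 2, 0, 1, 0, 1, 0, 2, 0, 2, 0, 1, 0, 2, 0, 2, 0], [2, 0, 1, 0, 1, 0, 1, 0, 1, 0, 2, 0, 2, 0, 1, 0, 2, 0, 1, 0, 1, 0, 2, 0, 2, 0, 1, 0, 1, 0, 2, 0, 1, 0, 2, 0], [2, 0, 2, 0, 2, 0, 1, 0, 1, 0, 1, 0, 2, 0, 1, 0, 2, 0, 2, 0, 1, 0, 1, 0, 2, 0, 2, 0, 1, 0, 2, 0, 2, 0, 1, 0]], [(12, 4, 0), (10, 4, 1), (21, 4, 2), (15, 4, 3), (7, 12, 1), (18, 12, 2), (19, 12, 3), (13, 10, 2), (16, 10, 3), (22, 21, 3), (17, 15, 2), (20, 7, 2), (8, 7, 3), (9, 18, 3), (14, 19, 2), (6, 13, 3), (5, 16, 2), (11, 20, 3), (23, 8, 2)]⟩,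
   ⟨5, [[1, 0, 2, 0, 1, 0, 2, 0, 2, 0, 1, 0, 2, 0, 1, 0, 2, 0, 1, 0, 1, 0, 2, 0, 1, 0, 1, 0, 1, 0, 1, 0], [0, 1, 0, 1, 0, 1, 0, 1, 0, 2, 0, 1, 0, 1, 0, 1, 0, 1, 0, 1, 0, 2, 0, 1, 0, 2, 0, 2, 0, 1, 0, 2, 0, 1, 0, 1, 0, 2, 0], [2, 0, 2, 0, 2, 0, 2, 0, 2, 0, 1, 0, 1, 0, 2, 0, 1, 0, 2, 0, 1, 0, 2, 0, 2, 0, 2, 0, 1, 0, 1, 0, 2, 0, 2, 0, 2, 0, 2, 0, 2, 0, 2, 0, 2, 0], [2, 0, 2, 0, 2, 0, 2, 0, 2, 0, 2, 0, 1, 0, 1, 0, 1, 0, 1, 0, 2, 0, 1, 0, 1, 0, 1, 0, 1, 0, 2, 0, 2, 0, 2, 0, 2, 0, 1, 0, 2, 0, 2, 0, 2, 0]], [(16, 5, 0), (21, 5, 1), (23, 5, 2), (20, 5, 3), (6, 16, 1), (11, 16, 3), (19, 23, 0), (14, 23, 2), (9, 20, 2), (15, 11, 2), (13, 19, 2), (18, 14, 3), (8, 9, 3), (22, 15, 3), (17, 13, 3)]⟩,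
   ⟨6, [[1, 0, 2, 0, 2, 0, 2, 0, 1, 0, 2, 0, 2, 0, 1, 0, 2, 0, 1, 0, 2, 0, 2, 0, 2, 0, 2, 0, 1, 0, 1, 0, 2, 0, 1, 0, 2, 0, 1, 0, 2, 0, 2, 0, 2, 0, 2, 0, 2, 0, 1, 0]], [(16, 6, 0), (21, 16, 0)]⟩]

end Cfsg.Lib.J4Pres
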