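import Cfsg.Agent.J4Pres.Letters
import Cfsg.Agent.J4Pres.ChainData
import Cfsg.Agent.Golay.M24
import Cfsg.Agent.CosetCert.Kit

/-!
The presented group maps onto M24.
-/

set_option autoImplicit false

namespace Cfsg.Lib.J4Pres

open Cfsg Cfsg.Lib.CosetTable Cfsg.Lib.PermCert

/-- A permutation without a check at each point. -/
def fastPerm (g : PP) (h1 : ∀ i : Fin 24, (ap g.2 ((ap g.1 i) % 24)) % 24 = i)
    (h2 : ∀ i : Fin 24, (ap g.1 ((ap g.2 i) % 24)) % 24 = i) : Equiv.Perm (Fin 24) where
  toFun i := ⟨ap g.1 i % 24, Nat.mod_lt _ (by norm_num)⟩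
  invFun i := ⟨ap g.2 i % 24, Nat.mod_lt _ (by norm_num)⟩
  left_inv i := Fin.ext (h1 i)
  right_inv i := Fin.ext (h2 i)

/-- The images of the generators on 24 points. -/
def genPerm : Bool → Equiv.Perm (Fin 24)
  | true => fastPerm permX (by decide +kernel) (by decide +kernel)
  | false => fastPerm permY (by decide +kernel) (by decide +kernel)

theorem fastPerm_eq {g : PP} (hg : valid 24 g = true) (h1 h2) : fastPerm g h1 h2 = perm 24 g :=
  Equiv.ext fun i => Fin.ext (by
    rw [perm_apply hg]
    exact Nat.mod_eq_of_lt (valid_lt hg i.2))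

theorem genPerm_rels : ∀ r ∈ relExprs (genPerm true) (genPerm false), r = 1 := by
  simp only [relExprs, List.mem_cons, List.not_mem_nil, or_false, forall_eq_or_imp, forall_eq]
  refine ⟨?_, ?_, ?_, ?_, ?_, ?_, ?_⟩ <;> decide +kernel

theorem genPerm_lift : ∀ r ∈ relSet, FreeGroup.lift genPerm r = 1 := by
  intro r hr
  refine genPerm_rels _ ?_
  have h := map_relExprs (FreeGroup.lift genPerm) (FreeGroup.of true) (FreeGroup.of false)
  rw [FreeGroup.lift_apply_of, FreeGroup.lift_apply_of] at h
  rw [← h]
  exact List.mem_map_of_mem hr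

/-- The action on 24 points. -/
def psi : P →* Equiv.Perm (Fin 24) := PresentedGroup.toGroup genPerm_lift

theorem psi_of (b : Bool) : psi (PresentedGroup.of b) = genPerm b := PresentedGroup.toGroup.of genPerm_lift

theorem genPerm_true (hv : valid 24 permX = true) : psi (PresentedGroup.of true) = perm 24 permX := by
  rw [psi_of, genPerm, fastPerm_eq hv]

theorem genPerm_false (hv : valid 24 permY = true) : psi (PresentedGroup.of false) = perm 24 permY := by
  rw [psi_of, genPerm, fastPerm_eq hv]

/-- The tables of the three letters. -/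
def tabs : List PP := [permX, permY, pinv permY]

theorem tabs_act : ∀ l < tabs.length, valid 24 (tabs.getD l (0, 0)) = true ∧
    psi (im l) = perm 24 (tabs.getD l (0, 0)) := by
  have hv : valid 24 permX = true ∧ valid 24 permY = true := by decide +kernel
  intro l hl
  simp only [tabs, List.length_cons, List.length_nil] at hl
  interval_cases l
  · exact ⟨hv.1, genPerm_true hv.1⟩
  · exact ⟨hv.2, genPerm_false hv.2⟩
  · refine ⟨valid_pinv hv.2, ?_⟩
    show psi py⁻¹ = perm 24 (pinv permY)
    rw [map_inv, perm_pinv hv.2]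
    exact congrArg (fun g => g⁻¹) (genPerm_false hv.2)

theorem chain_ok : CosetCert.chainOK tabs 24 tabs.length chain = true ∧ CosetCert.chainSize chain = 244823040 := by
  decide +kernel

/-- The action on the points of the code. -/
def sigma : P →* Equiv.Perm GolayPt := Cfsg.Lib.Golay.permHom.toMonoidHom.comp psi

theorem gens_preserve : Cfsg.Lib.Golay.preserves permX = true ∧ Cfsg.Lib.Golay.preserves permY = true := by
  decide +kernel

theorem sigma_le : sigma.range ≤ M24 := by
  rw [MonoidHom.range_eq_map, ← PresentedGroup.closure_range_of relSet, MonoidHom.map_closure,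
    Subgroup.closure_le]
  rintro _ ⟨_, ⟨b, rfl⟩, rfl⟩
  show Cfsg.Lib.Golay.permHom (psi (PresentedGroup.of b)) ∈ M24
  rw [psi_of]
  have hv : valid 24 permX = true ∧ valid 24 permY = true := by decide +kernel
  cases b
  · rw [genPerm, fastPerm_eq hv.2]; exact Cfsg.Lib.Golay.toP_mem_M24 gens_preserve.2
  · rw [genPerm, fastPerm_eq hv.1]; exact Cfsg.Lib.Golay.toP_mem_M24 gens_preserve.1

theorem sigma_range : sigma.range = M24 := by
  refine Subgroup.eq_of_le_of_card_ge sigma_le ?_
  have h := (CosetCert.chain_bound (fun k => psi (im k)) (MonoidHom.id _) tabs tabs_act chain psi.range chain_ok.1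
    inferInstance (fun K _ w _ => ⟨CosetCert.wval im w, CosetCert.map_wval im psi w⟩)).trans_eq' chain_ok.2.symm
  rw [Cfsg.Lib.Golay.card_M24]
  refine h.trans_eq ?_
  rw [sigma, MonoidHom.range_comp]
  exact Nat.card_congr (Cfsg.Lib.Golay.permHom.subgroupMap psi.range).toEquiv

end Cfsg.Lib.J4Pres
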