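import Cfsg.Agent.J4Pres.Bound
import Cfsg.Agent.J4Pres.Hom
import Cfsg.Agent.S2038
import Cfsg.Agent.Golay.Subgroups

/-!
The presented group is M24.
-/

set_option autoImplicit false

namespace Cfsg.Lib.J4Pres

open Cfsg Cfsg.Lib.CosetTable

theorem commutator_eq_top : commutator P = ⊤ := by
  have h := relExprs_one
  simp only [relExprs, List.mem_cons, List.not_mem_nil, or_false, forall_eq_or_imp, forall_eq] at h
  obtain ⟨h1, h2, h3, -⟩ := h
  have key : ∀ {A : Type} [CommGroup A] (f : P →* A), f px = 1 ∧ f py = 1 := by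
    intro A _ f
    have a2 : f px ^ 2 = 1 := by rw [← map_pow, h1, map_one]
    have b3 : f py ^ 3 = 1 := by rw [← map_pow, h2, map_one]
    have ab : f px ^ 23 * f py ^ 23 = 1 := by rw [← mul_pow, ← map_mul, ← map_pow, h3, map_one]
    have ha : f px ^ 23 = f px := by
      rw [show (23 : ℕ) = 2 * 11 + 1 from rfl, pow_succ, pow_mul, a2, one_pow, one_mul]
    have hb : f py ^ 23 = f py ^ 2 := by
      rw [show (23 : ℕ) = 3 * 7 + 2 from rfl, pow_add, pow_mul, b3, one_pow, one_mul]
    rw [ha, hb] at ab
    have hay : f px = f py := by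
      calc f px = f px * f py ^ 3 := by rw [b3, mul_one]
        _ = f px * f py ^ 2 * f py := by rw [pow_succ (f py) 2, mul_assoc]
        _ = f py := by rw [ab, one_mul]
    have hy2 : f py ^ 2 = 1 := hay ▸ a2
    have hy : f py = 1 := by
      have := b3
      rwa [pow_succ, hy2, one_mul] at this
    exact ⟨hay.trans hy, hy⟩
  rw [eq_top_iff, ← PresentedGroup.closure_range_of relSet, Subgroup.closure_le]
  rintro _ ⟨b, rfl⟩
  show PresentedGroup.of b ∈ commutator P
  rw [← Abelianization.ker_of]
  cases b
  · exact (key Abelianization.of).2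
  · exact (key Abelianization.of).1

/-- The map onto M24. -/
def toM24 : P →* M24 := sigma.codRestrict M24 fun p => sigma_le ⟨p, rfl⟩

theorem toM24_surjective : Function.Surjective toM24 := by
  intro g
  obtain ⟨p, hp⟩ : (g : Equiv.Perm GolayPt) ∈ sigma.range := by rw [sigma_range]; exact g.2
  exact ⟨p, Subtype.ext hp⟩

theorem ker_card_le : Nat.card toM24.ker ≤ 3 := by
  haveI := bound.1
  have h := Subgroup.card_mul_index toM24.ker
  rw [Subgroup.index_ker, MonoidHom.range_eq_top.2 toM24_surjective, Subgroup.card_top,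
    Cfsg.Lib.Golay.card_M24] at h
  have := bound.2
  omega

theorem ker_le_center : toM24.ker ≤ Subgroup.center P := by
  classical
  haveI := bound.1
  haveI : Fintype toM24.ker := Fintype.ofFinite _
  have hcard : Fintype.card toM24.ker ≤ 3 := by rw [← Nat.card_eq_fintype_card]; exact ker_card_le
  let φ : P →* MulAut toM24.ker := MulAut.conjNormal
  have triple : ∀ a b c : toM24.ker, a ≠ 1 → b ≠ 1 → c ≠ 1 → a ≠ b → c = a ∨ c = b := by
    intro a b c ha hb hc hab
    by_contra hne
    push Not at hne
    have h4 : ({1, a, b, c} : Finset toM24.ker).card = 4 := by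
      simp [ha.symm, hb.symm, hc.symm, hab, hne.1.symm, hne.2.symm]
    have := Finset.card_le_univ ({1, a, b, c} : Finset toM24.ker)
    omega
  have hcomm : ∀ f g : MulAut toM24.ker, f * g = g * f := by
    intro f g
    ext z : 1
    rw [MulAut.mul_apply, MulAut.mul_apply]
    rcases eq_or_ne z 1 with rfl | hz
    · simp
    have nz : ∀ (e : MulAut toM24.ker) (u : toM24.ker), u ≠ 1 → e u ≠ 1 := fun e u hu h =>
      hu (e.injective (h.trans (map_one e).symm))
    by_cases hg : g z = z
    · by_cases hf : f z = z
      · rw [hg, hf, hg]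
      · rw [hg]
        rcases triple z (f z) (g (f z)) hz (nz f z hz) (nz g _ (nz f z hz)) (Ne.symm hf) with e | e
        · exact absurd (g.injective (e.trans hg.symm)) hf
        · exact e.symm
    · rcases triple z (g z) (f z) hz (nz g z hz) (nz f z hz) (Ne.symm hg) with e | e
      · rw [e]
        rcases triple z (g z) (f (g z)) hz (nz g z hz) (nz f _ (nz g z hz)) (Ne.symm hg) with e' | e'
        · exact absurd (f.injective (e'.trans e.symm)) hg
        · exact e'
      · rw [e]
        have h1 : f (g z) = z := by
          rcases triple z (g z) (f (g z)) hz (nz g z hz) (nz f _ (nz g z hz)) (Ne.symm hg) with e' | e'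
          · exact e'
          · exact absurd (f.injective (e'.trans e.symm)) hg
        have h2 : g (g z) = z := by
          rcases triple z (g z) (g (g z)) hz (nz g z hz) (nz g _ (nz g z hz)) (Ne.symm hg) with e' | e'
          · exact e'
          · exact absurd (g.injective e') hg
        rw [h1, h2]
  have hker : commutator P ≤ φ.ker := by
    rw [commutator, Subgroup.commutator_le]
    intro a _ b _
    rw [MonoidHom.mem_ker, map_commutatorElement, commutatorElement_eq_one_iff_mul_comm]
    exact hcomm _ _
  rw [commutator_eq_top, top_le_iff] at hker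
  intro z hz
  rw [Subgroup.mem_center_iff]
  intro g
  have h : φ g = 1 := by rw [← MonoidHom.mem_ker, hker]; exact Subgroup.mem_top g
  have h' := congrArg (fun e : MulAut toM24.ker => ((e ⟨z, hz⟩ : toM24.ker) : P)) h
  simp only [φ, MulAut.conjNormal_apply, MulAut.one_apply] at h'
  exact mul_inv_eq_iff_eq_mul.1 h'

theorem toM24_injective : Function.Injective toM24 := by
  haveI := bound.1
  have hstem : IsStemExtension toM24 :=
    ⟨toM24_surjective, ker_le_center, by rw [commutator_eq_top]; exact le_top⟩
  obtain ⟨π, hπ⟩ := Cfsg.Agent.S2038.result.2 P toM24 hstem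
  rw [← MonoidHom.ker_eq_bot_iff, eq_bot_iff]
  intro z hz
  obtain ⟨a, ha⟩ := hπ ⟨z, hz⟩
  have : a = 1 := Subsingleton.elim _ _
  rw [this, map_one] at ha
  exact Subgroup.mem_bot.2 (congrArg Subtype.val ha).symm

/-- The isomorphism with M24. -/
noncomputable def equivM24 : P ≃* M24 := MulEquiv.ofBijective toM24 ⟨toM24_injective, toM24_surjective⟩

theorem simple_P : IsSimpleGroup P := by
  haveI := Cfsg.Lib.Golay.isSimple_M24
  haveI : Nontrivial P := equivM24.toEquiv.nontrivial
  exact IsSimpleGroup.isSimpleGroup_of_surjective equivM24.symm.toMonoidHom equivM24.symm.surjective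

end Cfsg.Lib.J4Pres
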