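import Cfsg.Agent.J4Pres.CXData

/-!
The certificate is valid.
-/

set_option autoImplicit false
set_option Elab.async false

namespace Cfsg.Lib.J4Pres.CX

open Cfsg.Lib.CosetTable

theorem steps0_ok : cert.stepsOK 0 148 = true := by decide +kernel

theorem ents0_ok : cert.entsOK 0 136 = true := by decide +kernel

theorem steps_ok : cert.stepsOK 0 cert.m = true := steps0_ok

theorem ents_ok : cert.entsOK 0 cert.n = true := ents0_ok

theorem valid : cert.Valid :=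
  ⟨by decide, by decide +kernel, steps_ok, ents_ok⟩

theorem walk0_ok : cert.walk cert.m [0, 1, 0, 1, 0, 2, 0, 1, 0, 1, 0, 2, 0, 2, 0, 1, 0, 2, 0, 1, 0, 1, 0, 2, 0, 1, 0, 1, 0, 2, 0, 2, 0, 1, 0, 2, 0, 1, 0, 1, 0, 2, 0, 1, 0, 1, 0, 2, 0, 2, 0, 1, 0, 2, 0, 1, 0, 1, 0, 2, 0, 1, 0, 1, 0, 2, 0, 2, 0, 1, 0, 2] 0 = some 0 := by decide +kernel

end Cfsg.Lib.J4Pres.CX
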