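import Cfsg.Agent.J4Pres.KTopData

/-!
Blocks of the certificate, part 1.
-/

set_option autoImplicit false
set_option Elab.async false

namespace Cfsg.Lib.J4Pres.KTop

open Cfsg.Lib.CosetTable

theorem steps1_ok : cert.stepsOK 400 400 = true := by decide +kernel

theorem steps3_ok : cert.stepsOK 1200 400 = true := by decide +kernel

theorem steps5_ok : cert.stepsOK 2000 400 = true := by decide +kernel

theorem steps7_ok : cert.stepsOK 2800 400 = true := by decide +kernel

theorem steps9_ok : cert.stepsOK 3600 400 = true := by decide +kernel

theorem steps11_ok : cert.stepsOK 4400 400 = true := by decide +kernel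

theorem steps13_ok : cert.stepsOK 5200 400 = true := by decide +kernel

theorem steps15_ok : cert.stepsOK 6000 400 = true := by decide +kernel

theorem steps17_ok : cert.stepsOK 6800 112 = true := by decide +kernel

theorem ents1_ok : cert.entsOK 400 400 = true := by decide +kernel

theorem ents3_ok : cert.entsOK 1200 400 = true := by decide +kernel

theorem ents5_ok : cert.entsOK 2000 400 = true := by decide +kernel

theorem ents7_ok : cert.entsOK 2800 400 = true := by decide +kernel

theorem rows0_ok : cert.rowsOK 0 1500 = true := by decide +kernel

theorem rows2_ok : cert.rowsOK 3000 456 = true := by decide +kernel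

end Cfsg.Lib.J4Pres.KTop
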