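import Cfsg.Agent.J4Pres.TopData

/-!
Blocks of the certificate, part 1.
-/

set_option autoImplicit false
set_option Elab.async false

namespace Cfsg.Lib.J4Pres.Top

open Cfsg.Lib.CosetTable

theorem steps1_ok : cert.stepsOK 400 400 = true := by decide +kernel

theorem steps4_ok : cert.stepsOK 1600 400 = true := by decide +kernel

theorem steps7_ok : cert.stepsOK 2800 400 = true := by decide +kernel

theorem steps10_ok : cert.stepsOK 4000 400 = true := by decide +kernel

theorem steps13_ok : cert.stepsOK 5200 400 = true := by decide +kernel

theorem steps16_ok : cert.stepsOK 6400 400 = true := by decide +kernel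

theorem steps19_ok : cert.stepsOK 7600 400 = true := by decide +kernel

theorem steps22_ok : cert.stepsOK 8800 308 = true := by decide +kernel

theorem ents2_ok : cert.entsOK 800 400 = true := by decide +kernel

theorem ents5_ok : cert.entsOK 2000 400 = true := by decide +kernel

theorem ents8_ok : cert.entsOK 3200 400 = true := by decide +kernel

theorem ents11_ok : cert.entsOK 4400 400 = true := by decide +kernel

theorem ents14_ok : cert.entsOK 5600 400 = true := by decide +kernel

theorem rows1_ok : cert.rowsOK 1500 1500 = true := by decide +kernel

theorem rows4_ok : cert.rowsOK 6000 72 = true := by decide +kernel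

end Cfsg.Lib.J4Pres.Top
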