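import Cfsg.Agent.J4Pres.TopData

/-!
Blocks of the certificate, part 2.
-/

set_option autoImplicit false
set_option Elab.async false

namespace Cfsg.Lib.J4Pres.Top

open Cfsg.Lib.CosetTable

theorem steps2_ok : cert.stepsOK 800 400 = true := by decide +kernel

theorem steps5_ok : cert.stepsOK 2000 400 = true := by decide +kernel

theorem steps8_ok : cert.stepsOK 3200 400 = true := by decide +kernel

theorem steps11_ok : cert.stepsOK 4400 400 = true := by decide +kernel

theorem steps14_ok : cert.stepsOK 5600 400 = true := by decide +kernel

theorem steps17_ok : cert.stepsOK 6800 400 = true := by decide +kernel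

theorem steps20_ok : cert.stepsOK 8000 400 = true := by decide +kernel

theorem ents0_ok : cert.entsOK 0 400 = true := by decide +kernel

theorem ents3_ok : cert.entsOK 1200 400 = true := by decide +kernel

theorem ents6_ok : cert.entsOK 2400 400 = true := by decide +kernel

theorem ents9_ok : cert.entsOK 3600 400 = true := by decide +kernel

theorem ents12_ok : cert.entsOK 4800 400 = true := by decide +kernel

theorem ents15_ok : cert.entsOK 6000 72 = true := by decide +kernel

theorem rows2_ok : cert.rowsOK 3000 1500 = true := by decide +kernel

end Cfsg.Lib.J4Pres.Top
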