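import Cfsg.Agent.J4Pres.TopCheck0
import Cfsg.Agent.J4Pres.TopCheck1
import Cfsg.Agent.J4Pres.TopCheck2

/-!
The certificate is valid.
-/

set_option autoImplicit false
set_option Elab.async false

namespace Cfsg.Lib.J4Pres.Top

open Cfsg.Lib.CosetTable

theorem stepsAcc1 : cert.stepsOK 0 800 = true :=
  stepsOK_cat cert (a := 0) (b := 400) (c := 400) steps0_ok steps1_ok

theorem stepsAcc2 : cert.stepsOK 0 1200 = true :=
  stepsOK_cat cert (a := 0) (b := 800) (c := 400) stepsAcc1 steps2_ok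

theorem stepsAcc3 : cert.stepsOK 0 1600 = true :=
  stepsOK_cat cert (a := 0) (b := 1200) (c := 400) stepsAcc2 steps3_ok

theorem stepsAcc4 : cert.stepsOK 0 2000 = true :=
  stepsOK_cat cert (a := 0) (b := 1600) (c := 400) stepsAcc3 steps4_ok

theorem stepsAcc5 : cert.stepsOK 0 2400 = true :=
  stepsOK_cat cert (a := 0) (b := 2000) (c := 400) stepsAcc4 steps5_ok

theorem stepsAcc6 : cert.stepsOK 0 2800 = true :=
  stepsOK_cat cert (a := 0) (b := 2400) (c := 400) stepsAcc5 steps6_ok

theorem stepsAcc7 : cert.stepsOK 0 3200 = true :=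
  stepsOK_cat cert (a := 0) (b := 2800) (c := 400) stepsAcc6 steps7_ok

theorem stepsAcc8 : cert.stepsOK 0 3600 = true :=
  stepsOK_cat cert (a := 0) (b := 3200) (c := 400) stepsAcc7 steps8_ok

theorem stepsAcc9 : cert.stepsOK 0 4000 = true :=
  stepsOK_cat cert (a := 0) (b := 3600) (c := 400) stepsAcc8 steps9_ok

theorem stepsAcc10 : cert.stepsOK 0 4400 = true :=
  stepsOK_cat cert (a := 0) (b := 4000) (c := 400) stepsAcc9 steps10_ok

theorem stepsAcc11 : cert.stepsOK 0 4800 = true :=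
  stepsOK_cat cert (a := 0) (b := 4400) (c := 400) stepsAcc10 steps11_ok

theorem stepsAcc12 : cert.stepsOK 0 5200 = true :=
  stepsOK_cat cert (a := 0) (b := 4800) (c := 400) stepsAcc11 steps12_ok

theorem stepsAcc13 : cert.stepsOK 0 5600 = true :=
  stepsOK_cat cert (a := 0) (b := 5200) (c := 400) stepsAcc12 steps13_ok

theorem stepsAcc14 : cert.stepsOK 0 6000 = true :=
  stepsOK_cat cert (a := 0) (b := 5600) (c := 400) stepsAcc13 steps14_ok

theorem stepsAcc15 : cert.stepsOK 0 6400 = true :=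
  stepsOK_cat cert (a := 0) (b := 6000) (c := 400) stepsAcc14 steps15_ok

theorem stepsAcc16 : cert.stepsOK 0 6800 = true :=
  stepsOK_cat cert (a := 0) (b := 6400) (c := 400) stepsAcc15 steps16_ok

theorem stepsAcc17 : cert.stepsOK 0 7200 = true :=
  stepsOK_cat cert (a := 0) (b := 6800) (c := 400) stepsAcc16 steps17_ok

theorem stepsAcc18 : cert.stepsOK 0 7600 = true :=
  stepsOK_cat cert (a := 0) (b := 7200) (c := 400) stepsAcc17 steps18_ok

theorem stepsAcc19 : cert.stepsOK 0 8000 = true :=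
  stepsOK_cat cert (a := 0) (b := 7600) (c := 400) stepsAcc18 steps19_ok

theorem stepsAcc20 : cert.stepsOK 0 8400 = true :=
  stepsOK_cat cert (a := 0) (b := 8000) (c := 400) stepsAcc19 steps20_ok

theorem stepsAcc21 : cert.stepsOK 0 8800 = true :=
  stepsOK_cat cert (a := 0) (b := 8400) (c := 400) stepsAcc20 steps21_ok

theorem stepsAcc22 : cert.stepsOK 0 9108 = true :=
  stepsOK_cat cert (a := 0) (b := 8800) (c := 308) stepsAcc21 steps22_ok

theorem steps_ok : cert.stepsOK 0 cert.m = true := stepsAcc22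

theorem entsAcc1 : cert.entsOK 0 800 = true :=
  entsOK_cat cert (a := 0) (b := 400) (c := 400) ents0_ok ents1_ok

theorem entsAcc2 : cert.entsOK 0 1200 = true :=
  entsOK_cat cert (a := 0) (b := 800) (c := 400) entsAcc1 ents2_ok

theorem entsAcc3 : cert.entsOK 0 1600 = true :=
  entsOK_cat cert (a := 0) (b := 1200) (c := 400) entsAcc2 ents3_ok

theorem entsAcc4 : cert.entsOK 0 2000 = true :=
  entsOK_cat cert (a := 0) (b := 1600) (c := 400) entsAcc3 ents4_ok

theorem entsAcc5 : cert.entsOK 0 2400 = true :=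
  entsOK_cat cert (a := 0) (b := 2000) (c := 400) entsAcc4 ents5_ok

theorem entsAcc6 : cert.entsOK 0 2800 = true :=
  entsOK_cat cert (a := 0) (b := 2400) (c := 400) entsAcc5 ents6_ok

theorem entsAcc7 : cert.entsOK 0 3200 = true :=
  entsOK_cat cert (a := 0) (b := 2800) (c := 400) entsAcc6 ents7_ok

theorem entsAcc8 : cert.entsOK 0 3600 = true :=
  entsOK_cat cert (a := 0) (b := 3200) (c := 400) entsAcc7 ents8_ok

theorem entsAcc9 : cert.entsOK 0 4000 = true :=
  entsOK_cat cert (a := 0) (b := 3600) (c := 400) entsAcc8 ents9_ok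

theorem entsAcc10 : cert.entsOK 0 4400 = true :=
  entsOK_cat cert (a := 0) (b := 4000) (c := 400) entsAcc9 ents10_ok

theorem entsAcc11 : cert.entsOK 0 4800 = true :=
  entsOK_cat cert (a := 0) (b := 4400) (c := 400) entsAcc10 ents11_ok

theorem entsAcc12 : cert.entsOK 0 5200 = true :=
  entsOK_cat cert (a := 0) (b := 4800) (c := 400) entsAcc11 ents12_ok

theorem entsAcc13 : cert.entsOK 0 5600 = true :=
  entsOK_cat cert (a := 0) (b := 5200) (c := 400) entsAcc12 ents13_ok

theorem entsAcc14 : cert.entsOK 0 6000 = true :=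
  entsOK_cat cert (a := 0) (b := 5600) (c := 400) entsAcc13 ents14_ok

theorem entsAcc15 : cert.entsOK 0 6072 = true :=
  entsOK_cat cert (a := 0) (b := 6000) (c := 72) entsAcc14 ents15_ok

theorem ents_ok : cert.entsOK 0 cert.n = true := entsAcc15

theorem rowsAcc1 : cert.rowsOK 0 3000 = true :=
  rowsOK_cat cert (a := 0) (b := 1500) (c := 1500) rows0_ok rows1_ok

theorem rowsAcc2 : cert.rowsOK 0 4500 = true :=
  rowsOK_cat cert (a := 0) (b := 3000) (c := 1500) rowsAcc1 rows2_ok

theorem rowsAcc3 : cert.rowsOK 0 6000 = true :=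
  rowsOK_cat cert (a := 0) (b := 4500) (c := 1500) rowsAcc2 rows3_ok

theorem rowsAcc4 : cert.rowsOK 0 6072 = true :=
  rowsOK_cat cert (a := 0) (b := 6000) (c := 72) rowsAcc3 rows4_ok

theorem rows_ok : cert.rowsOK 0 cert.n = true := rowsAcc4

theorem valid : cert.Valid :=
  ⟨by decide, by decide +kernel, steps_ok, ents_ok⟩

end Cfsg.Lib.J4Pres.Top
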