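import Cfsg.Agent.J4Pres.Letters
import Cfsg.Agent.J4Pres.CXCheck
import Cfsg.Agent.J4Pres.CKCheck
import Cfsg.Agent.J4Pres.KTopCheck
import Cfsg.Agent.J4Pres.MidCheck
import Cfsg.Agent.J4Pres.TopCheck

/-!
The order bound for the presented group from the certified tables.
-/

set_option autoImplicit false

namespace Cfsg.Lib.J4Pres

open Cfsg.Lib.CosetTable

theorem im_inv3 : ∀ l < 3, im (([0, 2, 1] : List ℕ).getD l 0) = (im l)⁻¹ := by
  intro l hl
  interval_cases l <;> simp [im, px_inv]

theorem inv_lt3 : ∀ l < 3, ([0, 2, 1] : List ℕ).getD l 0 < 3 := by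
  intro l hl
  interval_cases l <;> simp

/-- A relator word holds. -/
theorem of_relWords {R : List (List ℕ)} (h : (R.all fun r => relWords.contains r) = true) :
    ∀ r ∈ R, wval im r = 1 := fun r hr =>
  relWords_one r (List.contains_iff_mem.1 (List.all_eq_true.1 h r hr))

theorem sound_CX : CX.cert.Sound im (⊥ : Subgroup P) :=
  ⟨im_inv3, inv_lt3, of_relWords (by decide +kernel), fun r hr => by simp [CX.cert] at hr⟩

/-- The proved relator of length 72. -/
def extraWord : List ℕ :=
  (List.replicate 4 [0, 1, 0, 1, 0, 2, 0, 1, 0, 1, 0, 2, 0, 2, 0, 1, 0, 2]).flatten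

theorem extraWord_one : wval im extraWord = 1 :=
  Subgroup.mem_bot.1 (word_mem CX.cert im ⊥ CX.valid sound_CX (by decide +kernel) CX.walk0_ok)

theorem of_moreWords {R : List (List ℕ)} (h : (R.all fun r => (extraWord :: relWords).contains r) = true) :
    ∀ r ∈ R, wval im r = 1 := fun r hr => by
  rcases List.mem_cons.1 (List.contains_iff_mem.1 (List.all_eq_true.1 h r hr)) with rfl | h'
  · exact extraWord_one
  · exact relWords_one r h'

theorem sound_CK : CK.cert.Sound im (⊥ : Subgroup P) :=
  ⟨im_inv3, inv_lt3, of_moreWords (by decide +kernel), fun r hr => by simp [CK.cert] at hr⟩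

/-- The letters of the small subgroup as words. -/
def sub4 : ℕ → List ℕ
  | 0 => [1]
  | 1 => [2]
  | 2 => [0, 1, 0, 1, 0, 2, 0, 2]
  | _ => [1, 0, 1, 0, 2, 0, 2, 0]

/-- The letters of the small subgroup. -/
def im4 (l : ℕ) : P := wval im (sub4 l)

theorem wval_flatMap : ∀ w : List ℕ, wval im (w.flatMap sub4) = wval im4 w
  | [] => by simp [wval]
  | l :: w => by
    have e : wval im4 (l :: w) = im4 l * wval im4 w := by simp [wval]
    rw [e, ← wval_flatMap w]
    simp [wval, im4]

/-- A word of the small subgroup which is known to be trivial. -/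
def okSub (w : List ℕ) : Bool :=
  CK.cert.walk CK.cert.m (w.flatMap sub4) 0 == some 0 && (w.flatMap sub4).all fun l => decide (l < CK.cert.ng)

theorem okSub_one {w : List ℕ} (h : okSub w = true) : wval im4 w = 1 := by
  simp only [okSub, Bool.and_eq_true, beq_iff_eq] at h
  rw [← wval_flatMap]
  exact Subgroup.mem_bot.1 (word_mem CK.cert im ⊥ CK.valid sound_CK h.2 h.1)

theorem im4_inv : ∀ l < 4, im4 (([1, 0, 3, 2] : List ℕ).getD l 0) = (im4 l)⁻¹ := by
  intro l hl
  interval_cases l <;> simp [im4, sub4, wval, im, px_inv, mul_assoc]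

theorem inv_lt4 : ∀ l < 4, ([1, 0, 3, 2] : List ℕ).getD l 0 < 4 := by
  intro l hl
  interval_cases l <;> simp

/-- The cyclic subgroup. -/
def cyc : Subgroup P := Subgroup.zpowers (im4 2)

theorem sound_KTop : KTop.cert.Sound im4 cyc := by
  refine ⟨im4_inv, inv_lt4, fun r hr => okSub_one ?_, fun r hr => ?_⟩
  · have h : (KTop.cert.rels.all okSub) = true := by decide +kernel
    exact List.all_eq_true.1 h r hr
  · have h : KTop.cert.subs = [[2]] := rfl
    rw [h, List.mem_singleton] at hr
    subst hr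
    simp [wval, cyc, Subgroup.mem_zpowers]

theorem cyc_small : Finite cyc ∧ Nat.card cyc ≤ 5 := by
  have h : okSub [2, 2, 2, 2, 2] = true := by decide +kernel
  have h5 : im4 2 ^ 5 = 1 := by
    rw [← okSub_one h]
    simp [wval, pow_succ, mul_assoc]
  have hle : orderOf (im4 2) ≤ 5 := Nat.le_of_dvd (by norm_num) (orderOf_dvd_of_pow_eq_one h5)
  have hfin : IsOfFinOrder (im4 2) := isOfFinOrder_iff_pow_eq_one.2 ⟨5, by norm_num, h5⟩
  exact ⟨hfin.finite_zpowers, (Nat.card_zpowers (im4 2)).trans_le hle⟩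

/-- The small subgroup. -/
def smallSub : Subgroup P := Subgroup.closure (im4 '' Set.Iio 4)

theorem smallSub_bound : Finite smallSub ∧ Nat.card smallSub ≤ 17280 := by
  haveI := cyc_small.1
  have h := card_le KTop.cert im4 cyc KTop.valid sound_KTop KTop.rows_ok (L := smallSub) le_rfl
  have hn : KTop.cert.n = 3456 := rfl
  have := cyc_small.2
  rw [hn] at h
  exact ⟨h.1, h.2.trans (by omega)⟩

theorem sound_Mid : Mid.cert.Sound im smallSub := by
  refine ⟨im_inv3, inv_lt3, of_moreWords (by decide +kernel), fun r hr => ?_⟩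
  have h : Mid.cert.subs = [sub4 0, sub4 2] := rfl
  rw [h, List.mem_cons, List.mem_singleton] at hr
  rcases hr with rfl | rfl
  · exact Subgroup.subset_closure ⟨0, Set.mem_Iio.2 (by norm_num), rfl⟩
  · exact Subgroup.subset_closure ⟨2, Set.mem_Iio.2 (by norm_num), rfl⟩

/-- The subgroup of index 6072. -/
def bigSub : Subgroup P := Subgroup.closure {g | ∃ w ∈ Mid.gens, wval im w = g}

theorem bigSub_bound : Finite bigSub ∧ Nat.card bigSub ≤ 7 * 17280 := by
  haveI := smallSub_bound.1
  have hws : ∀ w ∈ Mid.gens, ∃ w' ∈ Mid.gens, wval im w' = (wval im w)⁻¹ := by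
    intro w hw
    simp only [Mid.gens, List.mem_cons, List.not_mem_nil, or_false] at hw
    rcases hw with rfl | rfl | rfl | rfl | rfl | rfl
    · exact ⟨_, List.mem_of_getElem? (i := 1) rfl, by simp [wval, im]⟩
    · exact ⟨_, List.mem_of_getElem? (i := 0) rfl, by simp [wval, im]⟩
    · exact ⟨_, List.mem_of_getElem? (i := 3) rfl, by simp [wval, im, px_inv, mul_assoc]⟩
    · exact ⟨_, List.mem_of_getElem? (i := 2) rfl, by simp [wval, im, px_inv, mul_assoc]⟩
    · exact ⟨_, List.mem_of_getElem? (i := 5) rfl, by simp [wval, im, px_inv, mul_assoc]⟩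
    · exact ⟨_, List.mem_of_getElem? (i := 4) rfl, by simp [wval, im, px_inv, mul_assoc]⟩
  have h := card_le_words Mid.cert im smallSub Mid.valid sound_Mid (cs := Mid.cosets) (ws := Mid.gens)
    (by decide +kernel) hws
  have hn : Mid.cosets.length = 7 := rfl
  rw [hn] at h
  exact ⟨h.1, h.2.trans (Nat.mul_le_mul_left 7 smallSub_bound.2)⟩

theorem sound_Top : Top.cert.Sound im bigSub := by
  refine ⟨im_inv3, inv_lt3, of_moreWords (by decide +kernel), fun r hr => ?_⟩
  have h : ∀ r ∈ Top.cert.subs, r ∈ Mid.gens := by decide +kernel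
  exact Subgroup.subset_closure ⟨r, h r hr, rfl⟩

/-- The presented group has at most three times the order of M24. -/
theorem bound : Finite P ∧ Nat.card P ≤ 3 * 244823040 := by
  haveI := bigSub_bound.1
  have h := card_le Top.cert im bigSub Top.valid sound_Top Top.rows_ok (L := (⊤ : Subgroup P)) (by
    rw [show Top.cert.ng = 3 from rfl, closure_gens])
  have hn : Top.cert.n = 6072 := rfl
  rw [hn, Subgroup.card_top] at h
  haveI := h.1
  have := bigSub_bound.2
  exact ⟨Finite.of_equiv _ Subgroup.topEquiv.toEquiv, h.2.trans (by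
    have : 6072 * Nat.card bigSub ≤ 6072 * (7 * 17280) := Nat.mul_le_mul_left _ this
    omega)⟩

end Cfsg.Lib.J4Pres
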