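import Mathlib.GroupTheory.PresentedGroup
import Cfsg.Agent.CosetTable.Basic

/-!
The group presented on two letters by the seven relators of the first two generators of J4, with word values.
-/

set_option autoImplicit false

namespace Cfsg.Lib.J4Pres

open Cfsg.Lib.CosetTable

/-- The relators, in any group. -/
def relExprs {G : Type*} [Group G] (a b : G) : List G :=
  [a ^ 2, b ^ 3, (a * b) ^ 23, (a⁻¹ * b⁻¹ * a * b) ^ 12, (a⁻¹ * (b * a * b)⁻¹ * a * (b * a * b)) ^ 5,
    (a * b * ((a * b * a * b⁻¹) ^ 3)) ^ 4, ((a * b * a * b * a * b⁻¹) ^ 3) * ((a * b * a * b⁻¹ * a * b⁻¹) ^ 3)]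

theorem map_relExprs {G H : Type*} [Group G] [Group H] (f : G →* H) (a b : G) :
    (relExprs a b).map f = relExprs (f a) (f b) := by
  simp [relExprs]

/-- The relators as elements of the free group. -/
def relSet : Set (FreeGroup Bool) := {r | r ∈ relExprs (FreeGroup.of true) (FreeGroup.of false)}

/-- The presented group. -/
abbrev P : Type := PresentedGroup relSet

/-- The first generator. -/
def px : P := PresentedGroup.of true
/-- The second generator. -/
def py : P := PresentedGroup.of false

theorem relExprs_one : ∀ r ∈ relExprs px py, r = 1 := by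
  intro r hr
  have h : relExprs px py = (relExprs (FreeGroup.of true) (FreeGroup.of false)).map (PresentedGroup.mk relSet) :=
    (map_relExprs _ _ _).symm
  rw [h, List.mem_map] at hr
  obtain ⟨q, hq, rfl⟩ := hr
  exact PresentedGroup.one_of_mem hq

/-- The letters. -/
def im : ℕ → P
  | 0 => px
  | 1 => py
  | _ => py⁻¹

theorem px_inv : px⁻¹ = px := by
  have h := relExprs_one (px ^ 2) (by simp [relExprs])
  rw [pow_two] at h
  exact inv_eq_of_mul_eq_one_right h

theorem wval_flatten (u : List ℕ) : ∀ k : ℕ, wval im (List.replicate k u).flatten = wval im u ^ k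
  | 0 => by simp [wval]
  | k + 1 => by
    rw [List.replicate_succ, List.flatten_cons, pow_succ', ← wval_flatten u k]
    simp [wval]

/-- The relators as words. -/
def relWords : List (List ℕ) :=
  [[1, 1, 1], [0, 0], (List.replicate 23 [0, 1]).flatten, (List.replicate 12 [0, 2, 0, 1]).flatten,
    (List.replicate 5 [0, 2, 0, 2, 0, 1, 0, 1]).flatten,
    (List.replicate 4 ([0, 1] ++ (List.replicate 3 [0, 1, 0, 2]).flatten)).flatten,
    (List.replicate 3 [0, 1, 0, 1, 0, 2]).flatten ++ (List.replicate 3 [0, 1, 0, 2, 0, 2]).flatten]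

theorem relWords_one : ∀ w ∈ relWords, wval im w = 1 := by
  have h : ∀ r ∈ relExprs px py, r = 1 := relExprs_one
  simp only [relExprs, List.mem_cons, List.not_mem_nil, or_false, forall_eq_or_imp, forall_eq] at h
  obtain ⟨h1, h2, h3, h4, h5, h6, h7⟩ := h
  have e1 : ∀ u v : List ℕ, wval im (u ++ v) = wval im u * wval im v := fun u v => by simp [wval]
  intro w hw
  simp only [relWords, List.mem_cons, List.not_mem_nil, or_false] at hw
  rcases hw with rfl | rfl | rfl | rfl | rfl | rfl | rfl
  · simpa [wval, im, pow_succ, mul_assoc] using h2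
  · simpa [wval, im, pow_succ, mul_assoc] using h1
  · rw [wval_flatten]
    simpa [wval, im] using h3
  · rw [wval_flatten]
    simpa [wval, im, px_inv, mul_assoc] using h4
  · rw [wval_flatten]
    simpa [wval, im, px_inv, mul_inv_rev, mul_assoc] using h5
  · rw [wval_flatten, e1, wval_flatten]
    simpa [wval, im, mul_assoc] using h6
  · rw [e1, wval_flatten, wval_flatten]
    simpa [wval, im, mul_assoc] using h7

theorem closure_gens : Subgroup.closure (im '' Set.Iio 3) = ⊤ := by
  rw [eq_top_iff, ← PresentedGroup.closure_range_of relSet, Subgroup.closure_le]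
  rintro _ ⟨b, rfl⟩
  cases b
  · exact Subgroup.subset_closure ⟨1, Set.mem_Iio.2 (by norm_num), rfl⟩
  · exact Subgroup.subset_closure ⟨0, Set.mem_Iio.2 (by norm_num), rfl⟩

end Cfsg.Lib.J4Pres
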