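import Cfsg.Agent.J4Pres.MidData

/-!
Blocks of the certificate, part 0.
-/

set_option autoImplicit false
set_option Elab.async false

namespace Cfsg.Lib.J4Pres.Mid

open Cfsg.Lib.CosetTable

theorem steps0_ok : cert.stepsOK 0 400 = true := by decide +kernel

theorem steps2_ok : cert.stepsOK 800 400 = true := by decide +kernel

theorem steps4_ok : cert.stepsOK 1600 400 = true := by decide +kernel

theorem steps6_ok : cert.stepsOK 2400 400 = true := by decide +kernel

theorem steps8_ok : cert.stepsOK 3200 400 = true := by decide +kernel

theorem steps10_ok : cert.stepsOK 4000 400 = true := by decide +kernel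

theorem steps12_ok : cert.stepsOK 4800 11 = true := by decide +kernel

theorem ents1_ok : cert.entsOK 400 400 = true := by decide +kernel

theorem ents3_ok : cert.entsOK 1200 400 = true := by decide +kernel

theorem ents5_ok : cert.entsOK 2000 400 = true := by decide +kernel

theorem ents7_ok : cert.entsOK 2800 400 = true := by decide +kernel

theorem ents9_ok : cert.entsOK 3600 212 = true := by decide +kernel

end Cfsg.Lib.J4Pres.Mid
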