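import Cfsg.Agent.J4Pres.TopData

/-!
Blocks of the certificate, part 0.
-/

set_option autoImplicit false
set_option Elab.async false

namespace Cfsg.Lib.J4Pres.Top

open Cfsg.Lib.CosetTable

theorem steps0_ok : cert.stepsOK 0 400 = true := by decide +kernel

theorem steps3_ok : cert.stepsOK 1200 400 = true := by decide +kernel

theorem steps6_ok : cert.stepsOK 2400 400 = true := by decide +kernel

theorem steps9_ok : cert.stepsOK 3600 400 = true := by decide +kernel

theorem steps12_ok : cert.stepsOK 4800 400 = true := by decide +kernel

theorem steps15_ok : cert.stepsOK 6000 400 = true := by decide +kernel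

theorem steps18_ok : cert.stepsOK 7200 400 = true := by decide +kernel

theorem steps21_ok : cert.stepsOK 8400 400 = true := by decide +kernel

theorem ents1_ok : cert.entsOK 400 400 = true := by decide +kernel

theorem ents4_ok : cert.entsOK 1600 400 = true := by decide +kernel

theorem ents7_ok : cert.entsOK 2800 400 = true := by decide +kernel

theorem ents10_ok : cert.entsOK 4000 400 = true := by decide +kernel

theorem ents13_ok : cert.entsOK 5200 400 = true := by decide +kernel

theorem rows0_ok : cert.rowsOK 0 1500 = true := by decide +kernel

theorem rows3_ok : cert.rowsOK 4500 1500 = true := by decide +kernel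

end Cfsg.Lib.J4Pres.Top
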